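import Mathlib

/-! Two plane polynomials with coprime top forms cut out `n * m` points. -/

universe u

open MvPolynomial

namespace BezoutAffLib

variable {k : Type u} [Field k]

local notation "S" => MvPolynomial (Fin 2) k

/-- polynomials of bounded degree -/
noncomputable abbrev D (k : Type u) [Field k] (e : ℕ) : Submodule k (MvPolynomial (Fin 2) k) :=
  restrictTotalDegree (Fin 2) k e

theorem mem_D {p : S} {e : ℕ} : p ∈ D k e ↔ p.totalDegree ≤ e := mem_restrictTotalDegree _ _ _

theorem mem_D_iff {p : S} {e : ℕ} : p ∈ D k e ↔ ∀ s, coeff s p ≠ 0 → s.degree ≤ e := by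
  rw [mem_D, totalDegree, Finset.sup_le_iff]
  exact ⟨fun h s hs => h s (mem_support_iff.2 hs), fun h s hs => h s (mem_support_iff.1 hs)⟩

theorem D_mono {a b : ℕ} (h : a ≤ b) : D k a ≤ D k b := fun p hp => mem_D.2 ((mem_D.1 hp).trans h)

theorem mul_mem_D {p q : S} {i j : ℕ} (hp : p ∈ D k i) (hq : q ∈ D k j) : p * q ∈ D k (i + j) :=
  mem_D.2 ((totalDegree_mul p q).trans (Nat.add_le_add (mem_D.1 hp) (mem_D.1 hq)))

theorem lower {p : S} {e : ℕ} (hp : p ∈ D k (e + 1)) (h0 : homogeneousComponent (e + 1) p = 0) : p ∈ D k e := by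
  rw [mem_D_iff] at hp ⊢
  intro s hs
  rcases (hp s hs).lt_or_eq with h | h
  · omega
  · exfalso
    apply hs
    have := congrArg (coeff s) h0
    rwa [coeff_homogeneousComponent, if_pos h, coeff_zero] at this

theorem zero_of_lt_zero {p : S} (hp : p ∈ D k 0) (h0 : homogeneousComponent 0 p = 0) : p = 0 := by
  ext s
  by_contra hs
  rw [coeff_zero] at hs
  have h := Nat.le_zero.1 (mem_D_iff.1 hp s hs)
  have := congrArg (coeff s) h0
  rw [coeff_homogeneousComponent, if_pos h, coeff_zero] at this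
  exact hs this

theorem top_mul {p q : S} {i j : ℕ} (hp : p ∈ D k i) (hq : q ∈ D k j) :
    homogeneousComponent (i + j) (p * q) = homogeneousComponent i p * homogeneousComponent j q := by
  classical
  ext s
  rw [coeff_homogeneousComponent, coeff_mul, coeff_mul]
  split_ifs with hs
  · refine Finset.sum_congr rfl fun x hx => ?_
    rw [Finset.HasAntidiagonal.mem_antidiagonal] at hx
    rw [coeff_homogeneousComponent, coeff_homogeneousComponent]
    have hdeg : x.1.degree + x.2.degree = i + j := by rw [← hs, ← hx, map_add]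
    by_cases h1 : x.1.degree = i
    · rw [if_pos h1, if_pos (by omega)]
    · rw [if_neg h1, zero_mul]
      by_contra hne
      have a1 := mem_D_iff.1 hp _ (left_ne_zero_of_mul hne)
      have a2 := mem_D_iff.1 hq _ (right_ne_zero_of_mul hne)
      omega
  · refine (Finset.sum_eq_zero fun x hx => ?_).symm
    rw [Finset.HasAntidiagonal.mem_antidiagonal] at hx
    rw [coeff_homogeneousComponent, coeff_homogeneousComponent]
    split_ifs with h1 h2
    · exfalso; apply hs; rw [← hx, map_add, h1, h2]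
    all_goals simp

/-- The data. -/
structure Data (k : Type u) [Field k] where
  f : MvPolynomial (Fin 2) k
  g : MvPolynomial (Fin 2) k
  n : ℕ
  m : ℕ
  hf : f ∈ D k n
  hg : g ∈ D k m
  hf0 : homogeneousComponent n f ≠ 0
  hg0 : homogeneousComponent m g ≠ 0
  hrel : IsRelPrime (homogeneousComponent n f) (homogeneousComponent m g)

variable (Z : Data k)

theorem top_step {a b : S} {i j : ℕ} (hij : i + Z.n = j + Z.m) (ha : a ∈ D k i) (hb : b ∈ D k j)
    (h : homogeneousComponent (i + Z.n) (a * Z.f + b * Z.g) = 0) :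
    (i < Z.m → homogeneousComponent i a = 0 ∧ homogeneousComponent j b = 0) ∧
      ∀ t, i = Z.m + t → ∃ c ∈ D k t, homogeneousComponent i a = homogeneousComponent i (c * Z.g) ∧
        homogeneousComponent j b = homogeneousComponent j (-(c * Z.f)) := by
  set F := homogeneousComponent Z.n Z.f
  set G := homogeneousComponent Z.m Z.g
  set a0 := homogeneousComponent i a
  set b0 := homogeneousComponent j b
  have h0 : a0 * F + b0 * G = 0 := by
    rw [map_add, top_mul ha Z.hf, hij, top_mul hb Z.hg] at h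
    exact h
  have hdvd : G ∣ a0 * F := ⟨-b0, by linear_combination h0⟩
  obtain ⟨c, hc⟩ := Z.hrel.symm.dvd_of_dvd_mul_right hdvd
  have hb0 : b0 = -(c * F) := mul_right_cancel₀ Z.hg0 (by linear_combination h0 - F * hc)
  by_cases hc0 : c = 0
  · subst hc0
    refine ⟨fun _ => ⟨by rw [hc, mul_zero], by rw [hb0, zero_mul, neg_zero]⟩, fun t _ => ⟨0, zero_mem _, ?_, ?_⟩⟩
    · rw [zero_mul, map_zero, hc, mul_zero]
    · rw [zero_mul, neg_zero, map_zero, hb0, zero_mul, neg_zero]
  · have hdeg : Z.m + c.totalDegree ≤ i := by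
      have h1 : a0.totalDegree ≤ i := (homogeneousComponent_isHomogeneous i a).totalDegree_le
      rw [hc, totalDegree_mul_of_isDomain Z.hg0 hc0,
        (homogeneousComponent_isHomogeneous Z.m Z.g).totalDegree Z.hg0] at h1
      exact h1
    refine ⟨fun h => absurd hdeg (by omega), fun t ht => ?_⟩
    obtain rfl : i = t + Z.m := by omega
    have hct : c ∈ D k t := mem_D.2 (by omega)
    have h2 : homogeneousComponent (t + Z.m) (c * Z.g) = homogeneousComponent t c * G := top_mul hct Z.hg
    have h3 : a0 = homogeneousComponent (t + Z.m) a0 := by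
      rw [homogeneousComponent_of_mem (homogeneousComponent_isHomogeneous (t + Z.m) a), if_pos rfl]
    have hGD : G ∈ D k Z.m := mem_D.2 (homogeneousComponent_isHomogeneous Z.m Z.g).totalDegree_le
    have h4 : homogeneousComponent t c * G = a0 := by
      conv_rhs => rw [h3, hc, mul_comm, top_mul hct hGD,
        homogeneousComponent_of_mem (homogeneousComponent_isHomogeneous Z.m Z.g), if_pos rfl]
    refine ⟨c, hct, by rw [h2, h4], ?_⟩
    have h5 : homogeneousComponent t c = c := mul_right_cancel₀ Z.hg0 (by rw [h4, hc, mul_comm])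
    obtain rfl : j = t + Z.n := by omega
    rw [map_neg, top_mul hct Z.hf, h5]
    exact hb0

theorem eq_zero_of_lt : ∀ (i j : ℕ), i + Z.n = j + Z.m → i < Z.m → ∀ a b, a ∈ D k i → b ∈ D k j →
    a * Z.f + b * Z.g = 0 → a = 0 ∧ b = 0 := by
  intro i
  induction i with
  | zero =>
    intro j hij hi a b ha hb h
    obtain ⟨h1, h2⟩ := (top_step Z hij ha hb (by rw [h, map_zero])).1 hi
    have ha0 := zero_of_lt_zero ha h1
    rw [ha0, zero_mul, zero_add, mul_eq_zero] at h
    refine ⟨ha0, h.resolve_right fun hg => Z.hg0 ?_⟩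
    rw [hg, map_zero]
  | succ i ih =>
    intro j hij hi a b ha hb h
    obtain ⟨h1, h2⟩ := (top_step Z hij ha hb (by rw [h, map_zero])).1 hi
    have ha' := lower ha h1
    cases j with
    | zero =>
      have hb0 := zero_of_lt_zero hb h2
      rw [hb0, zero_mul, add_zero, mul_eq_zero] at h
      refine ⟨h.resolve_right fun hf => Z.hf0 ?_, hb0⟩
      rw [hf, map_zero]
    | succ j => exact ih j (by omega) (by omega) a b ha' (lower hb h2) h

theorem kernel_eq : ∀ (t : ℕ) a b, a ∈ D k (Z.m + t) → b ∈ D k (Z.n + t) →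
    a * Z.f + b * Z.g = 0 → ∃ c ∈ D k t, a = c * Z.g ∧ b = -(c * Z.f) := by
  intro t
  induction t with
  | zero =>
    intro a b ha hb h
    obtain ⟨c, hc, h1, h2⟩ := (top_step Z (by omega) ha hb (by rw [h, map_zero])).2 0 rfl
    have h' : (a - c * Z.g) * Z.f + (b + c * Z.f) * Z.g = 0 := by linear_combination h
    refine ⟨c, hc, ?_⟩
    have ha' : a - c * Z.g ∈ D k (Z.m + 0) := sub_mem ha (by simpa using mul_mem_D hc Z.hg)
    have hb' : b + c * Z.f ∈ D k (Z.n + 0) := add_mem hb (by simpa using mul_mem_D hc Z.hf)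
    have t1 : homogeneousComponent (Z.m + 0) (a - c * Z.g) = 0 := by rw [map_sub, h1, sub_self]
    have t2 : homogeneousComponent (Z.n + 0) (b + c * Z.f) = 0 := by rw [map_add, h2, map_neg, neg_add_cancel]
    suffices a - c * Z.g = 0 ∧ b + c * Z.f = 0 from ⟨sub_eq_zero.1 this.1, eq_neg_of_add_eq_zero_left this.2⟩
    rcases Nat.eq_zero_or_pos Z.m with hm | hm
    · rw [hm] at ha' t1
      have ha0 := zero_of_lt_zero ha' t1
      rw [ha0, zero_mul, zero_add, mul_eq_zero] at h'
      exact ⟨ha0, h'.resolve_right fun hg => Z.hg0 (by rw [hg, map_zero])⟩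
    rcases Nat.eq_zero_or_pos Z.n with hn | hn
    · rw [hn] at hb' t2
      have hb0 := zero_of_lt_zero hb' t2
      rw [hb0, zero_mul, add_zero, mul_eq_zero] at h'
      exact ⟨h'.resolve_right fun hf => Z.hf0 (by rw [hf, map_zero]), hb0⟩
    obtain ⟨i, hi⟩ : ∃ i, Z.m + 0 = i + 1 := ⟨Z.m - 1, by omega⟩
    obtain ⟨j, hj⟩ : ∃ j, Z.n + 0 = j + 1 := ⟨Z.n - 1, by omega⟩
    rw [hi] at ha' t1
    rw [hj] at hb' t2
    exact eq_zero_of_lt Z i j (by omega) (by omega) _ _ (lower ha' t1) (lower hb' t2) h'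
  | succ t ih =>
    intro a b ha hb h
    obtain ⟨c, hc, h1, h2⟩ := (top_step Z (by omega) ha hb (by rw [h, map_zero])).2 (t + 1) rfl
    have ha' : a - c * Z.g ∈ D k (Z.m + t) := lower
      (sub_mem ha (by have := mul_mem_D hc Z.hg; rwa [add_comm] at this)) (by rw [add_assoc, map_sub, h1, sub_self])
    have hb' : b + c * Z.f ∈ D k (Z.n + t) := lower
      (add_mem hb (by have := mul_mem_D hc Z.hf; rwa [add_comm] at this)) (by rw [add_assoc, map_add, h2, map_neg, neg_add_cancel])
    obtain ⟨c', hc', e1, e2⟩ := ih _ _ ha' hb' (by linear_combination h)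
    exact ⟨c + c', add_mem hc (D_mono (by omega) hc'), by linear_combination e1, by linear_combination e2⟩

/-- `(a, b) ↦ a f + b g` in degree `n + m + t` -/
noncomputable def φ (t : ℕ) : D k (Z.m + t) × D k (Z.n + t) →ₗ[k] S :=
  LinearMap.coprod ((LinearMap.mulRight k Z.f).comp (D k (Z.m + t)).subtype)
    ((LinearMap.mulRight k Z.g).comp (D k (Z.n + t)).subtype)

theorem φ_apply (t : ℕ) (p) : φ Z t p = p.1.1 * Z.f + p.2.1 * Z.g := rfl

/-- the ideal -/
noncomputable def I : Ideal S := Ideal.span {Z.f, Z.g}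

theorem range_φ_le (t : ℕ) : LinearMap.range (φ Z t) ≤ D k (Z.n + Z.m + t) ⊓ (I Z).restrictScalars k := by
  rintro _ ⟨p, rfl⟩
  refine ⟨?_, Ideal.mem_span_pair.2 ⟨p.1, p.2, rfl⟩⟩
  rw [φ_apply]
  refine add_mem (D_mono ?_ (mul_mem_D p.1.2 Z.hf)) (D_mono ?_ (mul_mem_D p.2.2 Z.hg)) <;> omega

theorem range_φ (t : ℕ) : LinearMap.range (φ Z t) = D k (Z.n + Z.m + t) ⊓ (I Z).restrictScalars k := by
  refine le_antisymm (range_φ_le Z t) fun p ⟨hp, hpI⟩ => ?_
  obtain ⟨a, b, rfl⟩ := Ideal.mem_span_pair.1 hpI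
  suffices H : ∀ s a b, a ∈ D k (Z.m + t + s) → b ∈ D k (Z.n + t + s) → a * Z.f + b * Z.g ∈ D k (Z.n + Z.m + t) →
      a * Z.f + b * Z.g ∈ LinearMap.range (φ Z t) by
    refine H (a.totalDegree + b.totalDegree) a b (mem_D.2 ?_) (mem_D.2 ?_) hp <;> omega
  intro s
  induction s with
  | zero => exact fun a b ha hb _ => ⟨(⟨a, ha⟩, ⟨b, hb⟩), rfl⟩
  | succ s ih =>
    intro a b ha hb hp
    obtain ⟨c, hc, h1, h2⟩ := (top_step Z (by omega) ha hb (by
      rw [homogeneousComponent_eq_zero]
      have := mem_D.1 hp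
      omega)).2 (t + s + 1) (by omega)
    have ha' : a - c * Z.g ∈ D k (Z.m + t + s) := lower
      (sub_mem ha (D_mono (by omega) (mul_mem_D hc Z.hg)))
      (by rw [show Z.m + t + (s + 1) = Z.m + t + s + 1 by omega] at h1; rw [map_sub, h1, sub_self])
    have hb' : b + c * Z.f ∈ D k (Z.n + t + s) := lower
      (add_mem hb (D_mono (by omega) (mul_mem_D hc Z.hf)))
      (by rw [show Z.n + t + (s + 1) = Z.n + t + s + 1 by omega] at h2; rw [map_add, h2, map_neg, neg_add_cancel])
    have he : a * Z.f + b * Z.g = (a - c * Z.g) * Z.f + (b + c * Z.f) * Z.g := by ring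
    rw [he] at hp ⊢
    exact ih _ _ ha' hb' hp

theorem two_mul_finrank_D (e : ℕ) : 2 * Module.finrank k (D k e) = (e + 1) * (e + 2) := by
  classical
  let T : Finset (Σ _ : ℕ, ℕ) := (Finset.range (e + 1)).sigma fun a => Finset.range (e + 1 - a)
  have hT : 2 * T.card = (e + 1) * (e + 2) := by
    simp only [T, Finset.card_sigma, Finset.card_range]
    have : ∀ e : ℕ, 2 * ∑ a ∈ Finset.range (e + 1), (e + 1 - a) = (e + 1) * (e + 2) := by
      intro e
      induction e with
      | zero => rfl
      | succ e ih =>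
        rw [Finset.sum_range_succ']
        simp only [Nat.add_sub_add_right, Nat.sub_zero]
        rw [mul_add, ih]
        ring
    exact this e
  rw [← hT]
  congr 1
  let E : {s : Fin 2 →₀ ℕ // s.degree ≤ e} ≃ T :=
    { toFun := fun s => ⟨⟨s.1 0, s.1 1⟩, by
        have := s.2
        rw [Finsupp.degree_eq_sum, Fin.sum_univ_two] at this
        simp [T]; omega⟩
      invFun := fun x => ⟨Finsupp.single 0 x.1.1 + Finsupp.single 1 x.1.2, by
        have := x.2
        simp only [T, Finset.mem_sigma, Finset.mem_range] at this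
        rw [map_add, Finsupp.degree_single, Finsupp.degree_single]
        omega⟩
      left_inv := fun s => Subtype.ext (Finsupp.ext fun i => by fin_cases i <;> simp)
      right_inv := fun x => Subtype.ext (by simp) }
  have := Fintype.ofEquiv _ E.symm
  let B : Module.Basis {s : Fin 2 →₀ ℕ // s.degree ≤ e} k (D k e) := basisRestrictSupport k {s : Fin 2 →₀ ℕ | s.degree ≤ e}
  rw [Module.finrank_eq_card_basis B, Fintype.card_congr E, Fintype.card_coe]

theorem quot_dim (t : ℕ) : Module.finrank k (LinearMap.range (φ Z t)) + Z.n * Z.m = Module.finrank k (D k (Z.n + Z.m + t)) := by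
  have hg : Z.g ≠ 0 := fun h => Z.hg0 (by rw [h, map_zero])
  let κ : D k t →ₗ[k] D k (Z.m + t) × D k (Z.n + t) :=
    LinearMap.prod
      (((LinearMap.mulRight k Z.g).comp (D k t).subtype).codRestrict _ fun c => by
        have := mul_mem_D c.2 Z.hg; rwa [add_comm] at this)
      (-((LinearMap.mulRight k Z.f).comp (D k t).subtype).codRestrict _ fun c => by
        have := mul_mem_D c.2 Z.hf; rwa [add_comm] at this)
  have hκ : Function.Injective κ := fun c d h =>
    Subtype.ext (mul_right_cancel₀ hg (congrArg (fun p => (p.1 : S)) h))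
  have hker : LinearMap.ker (φ Z t) = LinearMap.range κ := by
    ext p
    constructor
    · intro hp
      obtain ⟨c, hc, e1, e2⟩ := kernel_eq Z t p.1 p.2 p.1.2 p.2.2 hp
      exact ⟨⟨c, hc⟩, Prod.ext (Subtype.ext e1.symm) (Subtype.ext e2.symm)⟩
    · rintro ⟨c, rfl⟩
      show (c : S) * Z.g * Z.f + -((c : S) * Z.f) * Z.g = 0
      ring
  have h := (φ Z t).finrank_range_add_finrank_ker
  rw [hker, LinearMap.finrank_range_of_inj hκ, Module.finrank_prod] at h
  have d1 := two_mul_finrank_D (k := k) t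
  have d2 := two_mul_finrank_D (k := k) (Z.m + t)
  have d3 := two_mul_finrank_D (k := k) (Z.n + t)
  have d4 := two_mul_finrank_D (k := k) (Z.n + Z.m + t)
  nlinarith

theorem finrank_quotient : Module.finrank k (S ⧸ I Z) = Z.n * Z.m := by
  let q : S →ₗ[k] S ⧸ I Z := (Ideal.Quotient.mkₐ k (I Z)).toLinearMap
  let V : ℕ → Submodule k (S ⧸ I Z) := fun t => (D k (Z.n + Z.m + t)).map q
  have hV : ∀ t, Module.finrank k (V t) = Z.n * Z.m := fun t => by
    have h := ((q.comp (D k (Z.n + Z.m + t)).subtype)).finrank_range_add_finrank_ker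
    have hk : Module.finrank k (LinearMap.ker (q.comp (D k (Z.n + Z.m + t)).subtype)) = Module.finrank k (LinearMap.range (φ Z t)) := by
      rw [range_φ, LinearMap.ker_comp]
      have : LinearMap.ker q = (I Z).restrictScalars k := by
        ext p; exact Ideal.Quotient.eq_zero_iff_mem
      rw [this]
      refine (LinearEquiv.finrank_eq ?_)
      exact (Submodule.equivSubtypeMap (D k (Z.n + Z.m + t)) _).trans (LinearEquiv.ofEq _ _ (by rw [Submodule.map_comap_subtype]))
    rw [hk, LinearMap.range_comp, Submodule.range_subtype] at h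
    have h2 := quot_dim Z t
    show Module.finrank k ((D k (Z.n + Z.m + t)).map q) = _
    omega
  have htop : V 0 = ⊤ := by
    refine top_le_iff.1 fun x _ => ?_
    obtain ⟨p, rfl⟩ := Ideal.Quotient.mk_surjective x
    have hle : V 0 ≤ V p.totalDegree := Submodule.map_mono (D_mono (by omega))
    rw [Submodule.eq_of_le_of_finrank_le hle (by rw [hV, hV])]
    exact ⟨p, mem_D.2 (by omega), rfl⟩
  rw [← finrank_top, ← htop, hV]

theorem dehom {n : ℕ} {f : MvPolynomial (Fin 3) k} (hf : f.IsHomogeneous n) :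
    aeval (Fin.cons (X 0) (Fin.cons (X 1) (Fin.cons 1 Fin.elim0)) : Fin 3 → S) f ∈ D k n ∧
      homogeneousComponent n (aeval (Fin.cons (X 0) (Fin.cons (X 1) (Fin.cons 1 Fin.elim0)) : Fin 3 → S) f) =
        aeval (Fin.cons (X 0) (Fin.cons (X 1) (Fin.cons 0 Fin.elim0)) : Fin 3 → S) f := by
  have hmon : ∀ (c : S) (r : k) (s : Fin 3 →₀ ℕ),
      aeval (Fin.cons (X 0) (Fin.cons (X 1) (Fin.cons c Fin.elim0)) : Fin 3 → S) (monomial s r) =
        monomial (Finsupp.single 0 (s 0) + Finsupp.single 1 (s 1)) r * c ^ (s 2) := by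
    intro c r s
    rw [aeval_monomial, Finsupp.prod_fintype _ _ (fun i => pow_zero _), Fin.prod_univ_three]
    have h2 : (Fin.cons (X 0) (Fin.cons (X 1) (Fin.cons c Fin.elim0)) : Fin 3 → S) 2 = c := rfl
    have h1 : (Fin.cons (X 0) (Fin.cons (X 1) (Fin.cons c Fin.elim0)) : Fin 3 → S) 1 = X 1 := rfl
    rw [h2, h1, Fin.cons_zero, algebraMap_eq, monomial_add_single, ← C_mul_X_pow_eq_monomial]
    ring
  rw [← f.support_sum_monomial_coeff]
  simp only [map_sum]
  have key : ∀ s ∈ f.support,
      aeval (Fin.cons (X 0) (Fin.cons (X 1) (Fin.cons 1 Fin.elim0)) : Fin 3 → S) (monomial s (coeff s f)) ∈ D k n ∧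
      homogeneousComponent n (aeval (Fin.cons (X 0) (Fin.cons (X 1) (Fin.cons 1 Fin.elim0)) : Fin 3 → S) (monomial s (coeff s f))) =
        aeval (Fin.cons (X 0) (Fin.cons (X 1) (Fin.cons 0 Fin.elim0)) : Fin 3 → S) (monomial s (coeff s f)) := by
    intro s hs
    have hdeg : s 0 + s 1 + s 2 = n := by
      have := (IsHomogeneous.degree_eq_sum_deg_support hf hs)
      rw [this]
      show _ = s.degree
      rw [Finsupp.degree_eq_sum, Fin.sum_univ_three]
    rw [hmon, hmon, one_pow, mul_one]
    refine ⟨mem_D.2 ?_, ?_⟩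
    · refine (totalDegree_monomial_le _ _).trans ?_
      show (Finsupp.single (0 : Fin 2) (s 0) + Finsupp.single 1 (s 1)).degree ≤ n
      rw [map_add, Finsupp.degree_single, Finsupp.degree_single]
      omega
    · rw [homogeneousComponent_of_mem (isHomogeneous_monomial (n := s 0 + s 1) _ (by rw [map_add, Finsupp.degree_single, Finsupp.degree_single]))]
      rcases Nat.eq_zero_or_pos (s 2) with h | h
      · rw [if_pos (by omega), h, pow_zero, mul_one]
      · rw [if_neg (by omega), zero_pow (by omega), mul_zero]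
  exact ⟨Submodule.sum_mem _ fun s hs => (key s hs).1, Finset.sum_congr rfl fun s hs => (key s hs).2⟩

end BezoutAffLib
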